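import Cfsg.Agent.H24.Balance.Core.Hyps
import Cfsg.Agent.H96.PrimeStep

/-!
The maps of the new system are congruent modulo `T` to conjugations by elements of `X`, which differ from them
on subgroups of `T` by maps of the normal subsystem.
-/

set_option autoImplicit false
set_option linter.unusedSectionVars false

namespace Cfsg.Agent.H24.Balance

open Cfsg Cfsg.FusionSystem
open Cfsg.Agent.H93 (Mor)
open Cfsg.Agent.H94.Meet (exists_conjAut)

variable {Ω : Type*} [Group Ω] {S T Z : Subgroup Ω} {F : FusionSystem S} {E : FusionSystem T} {p : ℕ}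
  [Finite S] [Fact p.Prime]

/-- Good automorphisms restrict to maps of `E` on the part in `T`. -/
theorem GoodAut.inE (hI : E.IsInvariantIn F) {a : MulAut Z} (h : GoodAut p F E Z a) : InE E Z a := by
  induction h with
  | base _ _ _ _ _ hin => exact hin
  | @step Z Z₁ a φ β _ _ hφ hg _ he ih =>
    obtain ⟨φi, hφi, hφi1, hφi2⟩ := hφ.exists_inv
    obtain ⟨f, hf, hfe⟩ := ih
    have hZM : Z₁ ⊓ T ≤ climb T T Z₁ ⊓ T := inf_le_inf_right _ le_climb
    obtain ⟨b, hb⟩ := exists_conjAut hφ a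
    have hbv : ∀ y : Z₁, ((b y : Z₁) : Ω) = ((β ⟨y, le_climb y.2⟩ : ↥(climb T T Z₁)) : Ω) := by
      intro y
      obtain ⟨x, hx, hxy⟩ := hφ.surj y.2
      obtain ⟨y, hy⟩ := y
      simp only at hxy
      subst hxy
      exact (hb ⟨x, hx⟩).symm.trans (he ⟨x, hx⟩)
    have hfv : ∀ (y : Ω) (hy : y ∈ Z₁ ⊓ T), f y = ((b ⟨y, hy.1⟩ : Z₁) : Ω) := fun y hy =>
      (hfe ⟨y, le_climb hy.1⟩ hy.2).trans (hbv ⟨y, hy.1⟩).symm
    have hin : InE E Z₁ b := by
      refine ⟨f, hf.restrict_eq hZM (fun y hy => ⟨hfv y hy ▸ (b _).2, (hf.map_mem (hZM hy)).2⟩) fun y hy => ?_,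
        fun x hx => hfv x ⟨x.2, hx⟩⟩
      obtain ⟨w, hw, hwy⟩ := hf.surj (hZM hy)
      obtain ⟨v, hv⟩ := b.surjective ⟨y, hy.1⟩
      have hwv : ⟨w, hw.1⟩ = (⟨v, le_climb v.2⟩ : ↥(climb T T Z₁)) := β.injective (Subtype.ext (by
        rw [← hfe ⟨w, hw.1⟩ hw.2, ← hbv v, hv]; exact hwy))
      have hwv' : w = v := congrArg Subtype.val hwv
      exact ⟨w, ⟨hwv' ▸ v.2, hw.2⟩, hwy⟩
    refine inE_conj hI hφi (fun y => ?_) hin
    rw [hbv]
    have h1 : φi ((β ⟨y, le_climb y.2⟩ : ↥(climb T T Z₁)) : Ω) = φi (φ ((a ⟨φi y, hφi.map_mem y.2⟩ : Z) : Ω)) := by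
      rw [he ⟨φi y, hφi.map_mem y.2⟩]
      exact congrArg φi (congrArg (fun z : ↥(climb T T Z₁) => ((β z : ↥(climb T T Z₁)) : Ω))
        (Subtype.ext (hφi2 y y.2).symm))
    rw [h1, hφi1 _ (a _).2]

end Cfsg.Agent.H24.Balance

namespace Cfsg.Agent.H24.Balance.Core

open Cfsg Cfsg.FusionSystem
open Cfsg.Agent.H93 (Mor)
open Cfsg.Agent.H94.Meet (TCentric ConjInner exists_conjAut)

variable {Ω : Type*} [Group Ω] {S T X P P' P'' Q : Subgroup Ω} {F : FusionSystem S} {E : FusionSystem T} {p : ℕ}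
  {N : FusionSystem (normalizerIn S X)}

/-- Congruent modulo `T` to the conjugation by an element of `X`, up to which it acts in `E` on the part in `T`. -/
def Dec (E : FusionSystem T) (X P : Subgroup Ω) (f : Ω → Ω) : Prop :=
  ∃ x ∈ X, (∀ y ∈ P, (x * y * x⁻¹)⁻¹ * f y ∈ T) ∧
    ∃ V : Subgroup Ω, Mor E (P ⊓ T) V (fun y => x⁻¹ * f y * x)

theorem Dec.congr {f f' : Ω → Ω} (e : ∀ y ∈ P, f y = f' y) (h : Dec E X P f) : Dec E X P f' := by
  obtain ⟨x, hx, hc, V, hV⟩ := h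
  exact ⟨x, hx, fun y hy => e y hy ▸ hc y hy, V, hV.congr fun y hy => by rw [e y hy.1]⟩

theorem Dec.mono {f : Ω → Ω} (hPQ : P ≤ Q) (h : Dec E X Q f) : Dec E X P f := by
  obtain ⟨x, hx, hc, V, hV⟩ := h
  obtain ⟨V', -, hV'⟩ := hV.restrict (inf_le_inf_right T hPQ)
  exact ⟨x, hx, fun y hy => hc y (hPQ hy), V', hV'⟩

variable [Finite S] [Fact p.Prime]

theorem mor_conj_base (hT : F.StronglyClosed T) {s : Ω} (hs : s ∈ S) :
    Mor F T T (fun z => s * z * s⁻¹) :=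
  H93.mor_conj F hT.1 ⟨hs, H93.StronglyClosed.le_normalizer hT hs⟩

theorem eq_of_mor {A B : Subgroup Ω} {G : FusionSystem B} {f g : Ω → Ω} {V V' : Subgroup Ω}
    (h : Mor G A V f) (h' : Mor F A V' g) (e : ∀ x ∈ A, f x = g x) : V = V' := by
  ext y
  constructor
  · intro hy
    obtain ⟨x, hx, rfl⟩ := h.surj hy
    exact e x hx ▸ h'.map_mem hx
  · intro hy
    obtain ⟨x, hx, rfl⟩ := h'.surj hy
    exact e x hx ▸ h.map_mem hx

theorem Dec.comp (hI : E.IsInvariantIn F) (hX : X ≤ S) {f f' : Ω → Ω} (hf : Mor F P P' f)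
    (h : Dec E X P f) (h' : Dec E X P' f') : Dec E X P (fun y => f' (f y)) := by
  obtain ⟨x, hx, hc, V, hV⟩ := h
  obtain ⟨x', hx', hc', V', hV'⟩ := h'
  have hT := hI.2.1
  refine ⟨x' * x, X.mul_mem hx' hx, fun y hy => ?_, ?_⟩
  · refine cong_trans ?_ (hc' (f y) (hf.map_mem hy))
    have h1 := H93.StronglyClosed.conj_mem hT (hX hx') (hc y hy)
    convert h1 using 1
    group
  · obtain ⟨A, B, hA, -, hAB⟩ := H96.mor_transport (H94.stronglyInvariant_of_invariant hI)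
      (mor_conj_base hT (S.inv_mem (hX hx))) (b := fun z => x * z * x⁻¹) (fun z _ => by group) hV'
    have hcomp := hA.comp (mor_inf hT hf)
    obtain rfl : V = A := eq_of_mor (F := F) hV hcomp fun y _ => by group
    refine ⟨B, (hAB.comp hV).congr fun y _ => ?_⟩
    show x⁻¹ * (x'⁻¹ * f' (x * (x⁻¹ * f y * x) * x⁻¹) * x') * x⁻¹⁻¹ = (x' * x)⁻¹ * f' (f y) * (x' * x)
    rw [show x * (x⁻¹ * f y * x) * x⁻¹ = f y by group]
    group

theorem Dec.inv (hI : E.IsInvariantIn F) (hX : X ≤ S) {f f' : Ω → Ω} (hf : Mor F P P' f)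
    (e : ∀ y ∈ P, f' (f y) = y) (h : Dec E X P f) : Dec E X P' f' := by
  obtain ⟨x, hx, hc, V, hV⟩ := h
  have hT := hI.2.1
  refine ⟨x⁻¹, X.inv_mem hx, fun z hz => ?_, ?_⟩
  · obtain ⟨y, hy, rfl⟩ := hf.surj hz
    rw [e y hy]
    have h1 := T.inv_mem (H93.StronglyClosed.conj_mem hT (S.inv_mem (hX hx)) (hc y hy))
    convert h1 using 1
    group
  · obtain ⟨i, hi, hi1, -⟩ := hV.exists_inv
    obtain ⟨A, B, hA, -, hAB⟩ := H96.mor_transport (H94.stronglyInvariant_of_invariant hI)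
      (mor_conj_base hT (hX hx)) (b := fun z => x⁻¹ * z * x⁻¹⁻¹) (fun z _ => by group) hi
    have hV' : Mor F (P ⊓ T) V (fun y => x⁻¹ * f y * x) := by
      obtain ⟨φ, hφ, hr, hv⟩ := hV
      exact ⟨φ, hI.1 _ hφ, hr, hv⟩
    obtain rfl : A = P' ⊓ T := eq_of_mor (F := F) (f := fun y => x * (x⁻¹ * f y * x) * x⁻¹)
      (hA.comp hV') (mor_inf hT hf) fun y _ => by group
    refine ⟨B, hAB.congr fun z hz => ?_⟩
    obtain ⟨y, hy, rfl⟩ := (mor_inf hT hf).surj hz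
    show x * i (x⁻¹ * f y * x⁻¹⁻¹) * x⁻¹ = x⁻¹⁻¹ * f' (f y) * x⁻¹
    rw [inv_inv, hi1 y hy, e y hy.1]

theorem ExtGood.dec (hI : E.IsInvariantIn F) {a : MulAut Q} (h : ExtGood p F E X Q a) {f : Ω → Ω}
    (he : ∀ y : Q, f y = ((a y : Q) : Ω)) : Dec E X Q f := by
  obtain ⟨-, α, hα, -, hαe⟩ := h
  have hval : ∀ y : Q, ((α (Subgroup.inclusion le_sup_left y) : ↥(Q ⊔ X)) : Ω) = f y := fun y =>
    (congrArg Subtype.val (hαe y)).trans (he y).symm
  refine ⟨1, X.one_mem, fun y hy => ?_, ?_⟩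
  · rw [one_mul, inv_one, mul_one, ← hval ⟨y, hy⟩]
    exact hα.congT hI.2.1 ⟨y, Subgroup.mem_sup_left hy⟩
  · obtain ⟨g, hg, hge⟩ := hα.inE hI
    obtain ⟨V, -, hV⟩ := hg.restrict (inf_le_inf_right T (le_sup_left : Q ≤ Q ⊔ X))
    refine ⟨V, hV.congr fun y hy => ?_⟩
    rw [inv_one, one_mul, mul_one, ← hval ⟨y, hy.1⟩]
    exact hge ⟨y, Subgroup.mem_sup_left hy.1⟩ hy.2

theorem conjInner_dec (hI : E.IsInvariantIn F) (hX : X ≤ S) (hN : F.IsNormalizerSystem X N) {a : MulAut Q}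
    (h : ConjInner N (base S T X) Q a) {f : Ω → Ω} (he : ∀ y : Q, f y = ((a y : Q) : Ω)) : Dec E X Q f := by
  obtain ⟨Q', φ, r, hφ, hr, hre⟩ := h
  have hT := hI.2.1
  obtain ⟨g, hg, hgX, hge⟩ := nmor_ext hN hφ
  obtain ⟨gi, hgi, hgi1, hgi2⟩ := hg.exists_inv
  have hr1 : r ∈ base S T X := hr.1
  rw [base, sup_comm, ← SetLike.mem_coe, Subgroup.coe_mul_of_right_le_normalizer_left X (T ⊓ normalizerIn S X)
    (inf_le_right.trans inf_le_right)] at hr1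
  obtain ⟨x, hx, t, ht, hxt⟩ := hr1
  have hxt' : x * t = r := hxt
  have hS' : Q' ⊔ X ≤ S := hg.le_right
  have := H96.finite_of_le hS'
  have hrN : r ∈ normalizerIn S X := base_le hX hr.1
  have hrn : r ∈ Subgroup.normalizer ((Q' ⊔ X : Subgroup Ω) : Set Ω) := by
    refine H94.mem_normalizer_of_forall_conj_mem fun y hy => ?_
    have hle : Q' ⊔ X ≤ (Q' ⊔ X).comap (MulAut.conj r).toMonoidHom :=
      sup_le (fun z hz => Subgroup.mem_sup_left (H93.mem_normalizerIn_conj hr hz))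
        fun z hz => Subgroup.mem_sup_right (H93.mem_normalizerIn_conj hrN hz)
    exact hle hy
  have htn : t ∈ Subgroup.normalizer ((Q' ⊔ X : Subgroup Ω) : Set Ω) := by
    rw [← inv_mul_cancel_left x t, hxt']
    exact Subgroup.mul_mem _ (Subgroup.inv_mem _ (Subgroup.le_normalizer (Subgroup.mem_sup_right hx))) hrn
  have htc : ∀ v ∈ Q' ⊔ X, t * v * t⁻¹ ∈ Q' ⊔ X := fun v hv => (Subgroup.mem_normalizer_iff.1 htn v).1 hv
  obtain ⟨x₀, hx₀, hx₀e⟩ := hgX.surj hx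
  have hfv : ∀ y ∈ Q, f y = x₀ * gi (t * g y * t⁻¹) * x₀⁻¹ := by
    intro y hy
    have h1 := hre ⟨y, hy⟩
    rw [← he ⟨y, hy⟩] at h1
    have hfy : f y ∈ Q := (he ⟨y, hy⟩) ▸ (a _).2
    rw [← hge _ hfy, ← hge y hy, ← hxt'] at h1
    have hgy := hg.map_mem (Subgroup.mem_sup_left (T := X) hy)
    rw [← hgi1 (f y) (Subgroup.mem_sup_left hfy), h1,
      show x * t * g y * (x * t)⁻¹ = x * (t * g y * t⁻¹) * x⁻¹ by group,
      hgi.map_conj (Subgroup.mem_sup_right hx) (htc _ hgy), ← hx₀e, hgi1 x₀ (Subgroup.mem_sup_right hx₀)]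
  refine ⟨x₀, hx₀, fun y hy => ?_, ?_⟩
  · have hgy := hg.map_mem (Subgroup.mem_sup_left (T := X) hy)
    have hd : (g y)⁻¹ * (t * g y * t⁻¹) ∈ T := by
      have h1 := T.mul_mem (H93.StronglyClosed.conj_mem hT (S.inv_mem (hS' hgy)) ht.1) (T.inv_mem ht.1)
      convert h1 using 1
      group
    obtain ⟨χ, hχ, -, hχv⟩ := id hgi
    have hm := Subgroup.mul_mem _ (Subgroup.inv_mem _ hgy) (htc _ hgy)
    have h2 : gi ((g y)⁻¹ * (t * g y * t⁻¹)) ∈ T := by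
      rw [← hχv ⟨_, hm⟩]
      exact H93.StronglyClosed.apply_mem hT hχ _ hd
    rw [hgi.map_mul (Subgroup.inv_mem _ hgy) (htc _ hgy), hgi.map_inv hgy,
      hgi1 y (Subgroup.mem_sup_left hy)] at h2
    rw [hfv y hy]
    have h3 := H93.StronglyClosed.conj_mem hT (hX hx₀) h2
    convert h3 using 1
    group
  · have hle : (Q' ⊔ X) ⊓ T ≤ T := inf_le_right
    have := H96.finite_of_le (inf_le_left.trans hS' : (Q' ⊔ X) ⊓ T ≤ S)
    have hct : Mor E ((Q' ⊔ X) ⊓ T) ((Q' ⊔ X) ⊓ T) (fun z => t * z * t⁻¹) :=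
      H93.mor_conj E hle ⟨ht.1, H94.mem_normalizer_of_forall_conj_mem fun v hv =>
        ⟨htc v hv.1, T.mul_mem (T.mul_mem ht.1 hv.2) (T.inv_mem ht.1)⟩⟩
    obtain ⟨V, -, hV⟩ := (H94.Meet.mor_conjugate hI hle hct (mor_inf hT hgi) (ki := g)
      fun y hy => hgi2 y hy.1).restrict (inf_le_inf_right T (le_sup_left : Q ≤ Q ⊔ X))
    refine ⟨V, hV.congr fun y hy => ?_⟩
    rw [hfv y hy.1]
    group

theorem autom_dec (hE : E.IsNormalIn F p) (hX : X ≤ S) (hN : F.IsNormalizerSystem X N)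
    {a : MulAut Q} (ha : a ∈ autom p F E N Q) (hQ : Q ≤ normalizerIn S X) {f : Ω → Ω}
    (he : ∀ y : Q, f y = ((a y : Q) : Ω)) : Dec E X Q f := by
  have hI := hE.1.2.2
  induction ha using Subgroup.closure_induction generalizing f with
  | mem a ha => exact ha.elim (fun h => h.dec hI he) fun h => conjInner_dec hI hX hN h he
  | one =>
    refine ⟨1, X.one_mem, fun y hy => ?_, Q ⊓ T, (Mor.id E inf_le_right).congr fun y hy => ?_⟩
    · rw [he ⟨y, hy⟩]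
      simp
    · rw [he ⟨y, hy.1⟩]
      simp
  | mul a b ha' hb' iha ihb =>
    obtain ⟨fb, hfb, hfbe⟩ := H93.exists_mor_of_aut hQ (autom_le hX hN hb')
    obtain ⟨fa, -, hfae⟩ := H93.exists_mor_of_aut hQ (autom_le hX hN ha')
    refine (Dec.comp hI hX (mor_toF hN hfb) (ihb hfbe) (iha hfae)).congr fun y hy => ?_
    rw [show fb y = _ from hfbe ⟨y, hy⟩, hfae, he ⟨y, hy⟩]
    rfl
  | inv a ha' iha =>
    obtain ⟨fa, hfa, hfae⟩ := H93.exists_mor_of_aut hQ (autom_le hX hN ha')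
    refine Dec.inv hI hX (mor_toF hN hfa) (fun y hy => ?_) (iha hfae)
    rw [show fa y = _ from hfae ⟨y, hy⟩, he, MulAut.inv_apply_self]

end Cfsg.Agent.H24.Balance.Core
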