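import Cfsg.Agent.H24.Balance.Core.Setup
import Cfsg.Agent.H24.InvMap.WeaklyNormal

/-!
The automizers of `N_T(X) X` in the normalizer system satisfy the Sylow, restriction and lifting conditions.
-/

set_option autoImplicit false
set_option linter.unusedSectionVars false

namespace Cfsg.Agent.H24.Balance.Core

open Cfsg Cfsg.FusionSystem
open Cfsg.Agent.H93 (Mor)
open Cfsg.Agent.H94.Meet (TCentric ConjInner exists_conjAut)

variable {Ω : Type*} [Group Ω] {S T X P P' Q U : Subgroup Ω} {F : FusionSystem S} {E : FusionSystem T} {p : ℕ}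
  {N : FusionSystem (normalizerIn S X)} [Finite S] [Fact p.Prime]

/-- An automorphism of order prime to `p` of `U X` fixing the centric subgroup `U` is trivial. -/
theorem eq_one_of_fix (hS : IsPGroup p S) (hT : F.StronglyClosed T) (hX : X ≤ S)
    (hN : F.IsNormalizerSystem X N) (hU : TCentric N (base S T X) U) {k : MulAut ↥(U ⊔ X)}
    (hk : k ∈ F.autGroup (U ⊔ X)) (hkp : (orderOf k).Coprime p)
    (hfix : ∀ x : ↥(U ⊔ X), (x : Ω) ∈ U → k x = x) : k = 1 := by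
  have hR : U ⊔ X ≤ base S T X := sup_le hU.1 le_sup_right
  have hZS : U ⊔ X ≤ S := (hR.trans (base_le hX)).trans inf_le_left
  have := H96.finite_of_le hZS
  obtain ⟨V, hV⟩ : ∃ V, V = (MonoidHom.eqLocus k.toMonoidHom (MonoidHom.id ↥(U ⊔ X))).map (U ⊔ X).subtype :=
    ⟨_, rfl⟩
  have hVi : ∀ x : ↥(U ⊔ X), (x : Ω) ∈ V ↔ k x = x := fun x => by
    rw [hV, Subgroup.mem_map]
    exact ⟨fun ⟨y, hy, e⟩ => Subtype.ext e ▸ hy, fun h => ⟨x, h, rfl⟩⟩
  have hVZ : V ≤ U ⊔ X := hV ▸ Subgroup.map_subtype_le _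
  have hUV : U ≤ V := fun u hu => (hVi ⟨u, Subgroup.mem_sup_left hu⟩).2 (hfix _ hu)
  by_contra hne
  have hlt : V < U ⊔ X := lt_of_le_of_ne hVZ fun e => hne (MulEquiv.ext fun x => (hVi x).1 (e.ge x.2))
  have hMV := H93.lt_normalizerIn (hS.to_le hZS) hlt
  obtain ⟨M, hM⟩ : ∃ M, M = normalizerIn (U ⊔ X) V := ⟨_, rfl⟩
  rw [← hM] at hMV
  have hMZ : M ≤ U ⊔ X := hM ▸ inf_le_left
  have := H96.finite_of_le (hMZ.trans hZS)
  have := H96.finite_of_le (hVZ.trans hZS)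
  have hkM : ∀ z : ↥(U ⊔ X), (z : Ω) ∈ M → ∀ v ∈ V,
      ((k z : ↥(U ⊔ X)) : Ω) * v * ((k z : ↥(U ⊔ X)) : Ω)⁻¹ = (z : Ω) * v * (z : Ω)⁻¹ := by
    intro z hz v hv
    rw [hM] at hz
    have hv' : v ∈ U ⊔ X := hVZ hv
    have h1 : k (z * ⟨v, hv'⟩ * z⁻¹) = z * ⟨v, hv'⟩ * z⁻¹ := (hVi _).1 (H93.mem_normalizerIn_conj hz hv)
    rw [map_mul, map_mul, map_inv, (hVi ⟨v, hv'⟩).1 hv] at h1
    exact congrArg Subtype.val h1
  obtain ⟨g, hg, hge⟩ := H93.exists_mor_of_aut hZS hk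
  have hgM : ∀ x ∈ M, g x ∈ M := by
    intro x hx
    rw [show g x = _ from hge ⟨x, hMZ hx⟩]
    have h1 := hkM ⟨x, hMZ hx⟩ hx
    rw [hM]
    refine ⟨(k _).2, H94.mem_normalizer_of_forall_conj_mem fun v hv => ?_⟩
    rw [h1 v hv]
    rw [hM] at hx
    exact H93.mem_normalizerIn_conj hx hv
  obtain ⟨M', -, hgM'⟩ := hg.restrict hMZ
  obtain rfl : M' = M := Subgroup.eq_of_le_of_card_ge (fun y hy => by
    obtain ⟨x, hx, rfl⟩ := hgM'.surj hy
    exact hgM x hx) hgM'.card_eq.le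
  obtain ⟨δ, -, hδe⟩ := hgM'.exists_aut
  have hke : ∀ x : M', ((δ x : M') : Ω) = ((k ⟨x, hMZ x.2⟩ : ↥(U ⊔ X)) : Ω) := fun x =>
    (hδe x).trans (hge ⟨x, hMZ x.2⟩)
  have hδp : (orderOf δ).Coprime p :=
    coprime_of_intertwine (f := fun x : M' => (⟨x, hMZ x.2⟩ : ↥(U ⊔ X)))
      (fun x y e => Subtype.ext (congrArg (fun z : ↥(U ⊔ X) => (z : Ω)) e))
      (fun x => Subtype.ext (hke x).symm) hkp
  obtain ⟨j, hj⟩ := H93.pow_eq_one_of_stabilizes hS (hMZ.trans hZS) (δ := δ) (R := V)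
    (fun y hy => Subtype.ext ((hke y).trans (congrArg Subtype.val ((hVi ⟨y, hMZ y.2⟩).1 hy)))) fun y => by
      refine hUV (hU.2 U (H93.isConj_refl N (hU.1.trans (base_le hX))) (H93.mem_centralizerIn.2 ⟨?_, fun u hu => ?_⟩))
      · exact hR ((U ⊔ X).mul_mem ((U ⊔ X).inv_mem (hMZ y.2)) (hMZ (δ y).2))
      · have h1 := hkM ⟨y, hMZ y.2⟩ y.2 u (hUV hu)
        rw [Subgroup.coe_mul, Subgroup.coe_inv, hke]
        calc (y : Ω)⁻¹ * (k ⟨y, hMZ y.2⟩ : ↥(U ⊔ X)) * u * ((y : Ω)⁻¹ * (k ⟨y, hMZ y.2⟩ : ↥(U ⊔ X)))⁻¹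
            = (y : Ω)⁻¹ * (((k ⟨y, hMZ y.2⟩ : ↥(U ⊔ X)) : Ω) * u * ((k ⟨y, hMZ y.2⟩ : ↥(U ⊔ X)) : Ω)⁻¹) * y := by
              group
          _ = u := by rw [h1]; group
  have hδ1 : δ = 1 := orderOf_eq_one_iff.1
    (Nat.eq_one_of_dvd_coprimes (hδp.pow_right j) dvd_rfl (orderOf_dvd_of_pow_eq_one hj))
  refine hMV.not_ge fun x hx => (hVi ⟨x, hMZ hx⟩).2 (Subtype.ext ((hke ⟨x, hx⟩).symm.trans ?_))
  rw [hδ1]
  rfl

/-- Automorphisms of `U X` of order prime to `p` agreeing on `U` are conjugate. -/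
theorem exists_conj_fix (hS : IsPGroup p S) (hT : F.StronglyClosed T) (hX : X ≤ S)
    (hN : F.IsNormalizerSystem X N) (hU : TCentric N (base S T X) U) {α β : MulAut ↥(U ⊔ X)}
    (hα : α ∈ F.autGroup (U ⊔ X)) (hβ : β ∈ F.autGroup (U ⊔ X))
    (hαp : (orderOf α).Coprime p) (hβp : (orderOf β).Coprime p)
    (hαU : ∀ x : ↥(U ⊔ X), (x : Ω) ∈ U ↔ ((α x : ↥(U ⊔ X)) : Ω) ∈ U)
    (he : ∀ x : ↥(U ⊔ X), (x : Ω) ∈ U → α x = β x) :
    ∃ k ∈ F.autGroup (U ⊔ X), β = k * α * k⁻¹ := by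
  have hZS : U ⊔ X ≤ S := sup_le ((hU.1.trans (base_le hX)).trans inf_le_left) hX
  have := H96.finite_of_le hZS
  have : Finite (MulAut ↥(U ⊔ X)) :=
    Finite.of_injective (fun e : MulAut ↥(U ⊔ X) => (e : _ → _)) DFunLike.coe_injective
  obtain ⟨K, hK⟩ : ∃ K, K = F.autGroup (U ⊔ X) ⊓ fixGroup U (U ⊔ X) := ⟨_, rfl⟩
  have hKp : IsPGroup p K := by
    rintro ⟨k, hk⟩
    rw [hK] at hk
    obtain ⟨e, u, hu, he'⟩ := Nat.exists_eq_pow_mul_and_not_dvd (orderOf_pos k).ne' p (Fact.out : p.Prime).ne_one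
    refine ⟨e, Subtype.ext (eq_one_of_fix hS hT hX hN hU (pow_mem hk.1 _) ?_ fun x hx =>
      (pow_mem hk.2 (p ^ e) : k ^ p ^ e ∈ fixGroup U (U ⊔ X)) x hx)⟩
    rw [show ((⟨k, _⟩ ^ p ^ e : K) : MulAut ↥(U ⊔ X)) = k ^ p ^ e from rfl, orderOf_pow_of_dvd (pow_ne_zero _ (Fact.out : p.Prime).ne_zero) ⟨u, he'⟩, he',
      Nat.mul_div_cancel_left _ (pow_pos (Fact.out : p.Prime).pos e)]
    exact ((Fact.out : p.Prime).coprime_iff_not_dvd.2 hu).symm
  have hKn : ∀ k ∈ K, α * k * α⁻¹ ∈ K := by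
    intro k hk
    rw [hK] at hk ⊢
    refine ⟨mul_mem (mul_mem hα hk.1) (Subgroup.inv_mem _ hα), fun x hx => ?_⟩
    rw [MulAut.mul_apply, MulAut.mul_apply, hk.2 (α⁻¹ x) ((hαU _).2 (by rwa [MulAut.apply_inv_self])),
      MulAut.apply_inv_self]
  obtain ⟨k, hk, hkβ⟩ := exists_conj_of_mem hKp hKn hαp hβp (f := β) (hK ▸ ⟨mul_mem (Subgroup.inv_mem _ hα) hβ, fun x hx => by
    rw [MulAut.mul_apply, ← he x hx, MulAut.inv_apply_self]⟩)
  exact ⟨k, (hK ▸ hk : k ∈ F.autGroup (U ⊔ X) ⊓ fixGroup U (U ⊔ X)).1, hkβ⟩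

theorem sylowProp (hS : IsPGroup p S) (hE : E.IsNormalIn F p) (hX : F.IsFullyNormalized X)
    (hN : F.IsNormalizerSystem X N) :
    H24.InvMap.SylowProp p N (base S T X) (autom p F E N) := by
  intro U hU hn
  have hd := data (E := E) hS hE hX hN
  have hI := hE.1.2.2
  have hfin : Finite ↥(normalizerIn S X) := H96.finite_of_le (S := S) inf_le_left
  have hUN : U ≤ normalizerIn S X := hn.1
  have := H96.finite_of_le hUN
  have := H93.finite_autGroup (F := N) hUN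
  obtain ⟨hA', hrec⟩ := H94.fullyNormalized_spec hd.isPGroup hd.saturated hn
  obtain ⟨-, P, hP⟩ := hA'
  have hle : autom p F E N U ≤ N.autGroup U := autom_le hX.1 hN
  have : ((autom p F E N U).subgroupOf (N.autGroup U)).Normal := ⟨fun a ha u => by
    obtain ⟨f, hf, hfe⟩ := H93.exists_mor_of_aut hUN u.2
    exact Subgroup.mem_subgroupOf.2
      (autom_conj hI hX.1 hN hf (conjAut_of_aut hf hfe _) (Subgroup.mem_subgroupOf.1 ha))⟩
  have hsyl := H22.sylow_not_dvd_relIndex_normal P ((autom p F E N U).subgroupOf (N.autGroup U))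
  rw [hP, Subgroup.relIndex_subgroupOf hle] at hsyl
  have key : autInducedBy (normalizerIn S X) U ⊓ autom p F E N U ≤ autInducedBy (base S T X) U := by
    rintro x ⟨hx1, hx2⟩
    obtain ⟨k, hk⟩ := H94.isPGroup_autInducedBy (P := U) hd.isPGroup ⟨x, hx1⟩
    obtain ⟨s, hs, hse⟩ := H96.mem_autInducedBy.1 hx1
    obtain ⟨Q', φ, r, hφ, hr, hre⟩ := (autom_spec hS hE hX hN hU hx2).2 ⟨k, congrArg Subtype.val hk⟩
    obtain ⟨φi, hφi, hφi1, hφi2⟩ := hφ.exists_inv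
    have hrN : r ∈ normalizerIn (normalizerIn S X) Q' := ⟨base_le hX.1 hr.1, hr.2⟩
    have hstep : ∀ v ∈ Q', φi (r * v * r⁻¹) = s * φi v * s⁻¹ := by
      intro v hv
      obtain ⟨u, hu, rfl⟩ := hφ.surj hv
      rw [← hre ⟨u, hu⟩, hφi1 _ (x _).2, hse, hφi1 u hu]
    have hpow : ∀ n : ℕ, ∀ v ∈ Q', φi (r ^ n * v * (r ^ n)⁻¹) = s ^ n * φi v * (s ^ n)⁻¹ := by
      intro n
      induction n with
      | zero => intro v _; simp
      | succ n ih =>
        intro v hv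
        have hv' : r * v * r⁻¹ ∈ Q' := H93.mem_normalizerIn_conj hr hv
        rw [pow_succ r, show r ^ n * r * v * (r ^ n * r)⁻¹ = r ^ n * (r * v * r⁻¹) * (r ^ n)⁻¹ by group, ih _ hv',
          hstep v hv, pow_succ]
        group
    obtain ⟨ψ, M, hψ, hψe, -⟩ := hφi.extend (M := Subgroup.zpowers r) hrec fun m hm => by
      obtain ⟨n, rfl⟩ : m ∈ Submonoid.powers r := by
        rw [IsOfFinOrder.mem_powers_iff_mem_zpowers]
        · exact hm
        · obtain ⟨j, hj⟩ := hd.isPGroup ⟨r, hrN.1⟩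
          exact isOfFinOrder_iff_pow_eq_one.2 ⟨p ^ j, pow_pos (Fact.out : p.Prime).pos j, congrArg Subtype.val hj⟩
      exact ⟨Subgroup.pow_mem _ hrN n, s ^ n, Subgroup.pow_mem _ hs n, hpow n⟩
    refine H96.mem_autInducedBy.2 ⟨ψ r, ?_, fun u => ?_⟩
    · obtain ⟨ρ, hρ, -, hρv⟩ := id hψ
      rw [← hρv ⟨r, Subgroup.mem_sup_right (Subgroup.mem_zpowers r)⟩]
      exact H93.StronglyClosed.apply_mem hd.closed hρ _ hr.1
    · have h1 := hψ.map_conj (Subgroup.mem_sup_right (Subgroup.mem_zpowers r))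
        (Subgroup.mem_sup_left (T := Subgroup.zpowers r) (hφ.map_mem u.2))
      rw [hψe _ (hφ.map_mem u.2), hφi1 u u.2, hψe _ (H93.mem_normalizerIn_conj hr (hφ.map_mem u.2)),
        hstep _ (hφ.map_mem u.2), hφi1 u u.2] at h1
      rw [hse u, h1]
  refine fun h => hsyl (h.trans ?_)
  rw [← Subgroup.inf_relIndex_right (autInducedBy (normalizerIn S X) U)]
  exact Subgroup.relIndex_dvd_of_le_left _ key

theorem restrictProp (hS : IsPGroup p S) (hE : E.IsNormalIn F p) (hX : F.IsFullyNormalized X)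
    (hN : F.IsNormalizerSystem X N) :
    H24.InvMap.RestrictProp p N (base S T X) (autom p F E N) := by
  intro U W hU hUW hW a ha hap b hb
  have hI := hE.1.2.2
  obtain ⟨-, α, hα, hαX, hαe⟩ := (autom_spec hS hE hX hN (hU.mono hUW hW) ha).1 hap
  have hle : U ⊔ X ≤ W ⊔ X := sup_le_sup_right hUW X
  obtain ⟨g, hg, hge⟩ := H93.exists_mor_of_aut hα.le hα.mem_autGroup
  have hgU : ∀ x : U, g x = ((b x : U) : Ω) := fun x =>
    (hge (Subgroup.inclusion le_sup_left (Subgroup.inclusion hUW x))).trans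
      ((congrArg Subtype.val (hαe _)).trans (hb x).symm)
  obtain ⟨M, -, hgM⟩ := hg.restrict hle
  have := H96.finite_of_le hgM.le_left
  obtain rfl : M = U ⊔ X := by
    refine Subgroup.eq_of_le_of_card_ge ?_ hgM.card_eq.le
    obtain ⟨χ, hχ, hχr, hχv⟩ := id hgM
    rw [← hχr]
    rintro _ ⟨z, rfl⟩
    refine H93.apply_mem_sup (fun x => Subgroup.mem_sup_left ?_) (fun x => Subgroup.mem_sup_right ?_) z
    · rw [hχv]
      exact (hgU x) ▸ (b x).2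
    · rw [hχv]
      exact (hge ⟨x, Subgroup.mem_sup_right x.2⟩) ▸ (hαX _).2 x.2
  obtain ⟨β, hβ, hβe⟩ := hgM.exists_aut
  have hres : ∀ x : ↥(U ⊔ X), ((α ⟨x, hle x.2⟩ : ↥(W ⊔ X)) : Ω) = ((β x : ↥(U ⊔ X)) : Ω) := fun x =>
    (hge ⟨x, hle x.2⟩).symm.trans (hβe x).symm
  have hWT : W ⊔ X ≤ U ⊔ X ⊔ T := sup_le (hW.trans (base_le_sup.trans (sup_le_sup_right le_sup_right T)))
    (le_sup_right.trans le_sup_left)
  refine ExtGood.mem_autom ⟨hU.1, β,
    (goodAut_restrict_iff hS hE _ (zCentric_sup hS hE.1.2.1 hI.2.1 hX hN hU) _ hle hα.le hWT α hα.mem_autGroup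
      hα.coprime β hres).1 hα, fun z => ?_, fun x => Subtype.ext ?_⟩
  · rw [← hres]
    exact hαX ⟨z, hle z.2⟩
  · exact (hβe _).trans (hgU x)

theorem liftProp (hS : IsPGroup p S) (hE : E.IsNormalIn F p) (hX : F.IsFullyNormalized X)
    (hN : F.IsNormalizerSystem X N) :
    H24.InvMap.LiftProp p N (base S T X) (autom p F E N) := by
  intro U W hU hn hUW hW a ha hap hcond
  have hd := data (E := E) hS hE hX hN
  have hI := hE.1.2.2
  have hfin : Finite ↥(normalizerIn S X) := H96.finite_of_le (S := S) inf_le_left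
  have hRN := base_le (S := S) (T := T) hX.1
  have hWR : W ≤ base S T X := hW.trans inf_le_left
  obtain ⟨hA', hrec⟩ := H94.fullyNormalized_spec hd.isPGroup hd.saturated hn
  obtain ⟨fa, hfa, hfae⟩ := H93.exists_mor_of_aut hn.1 (autom_le hX.1 hN ha)
  obtain ⟨f, W', hf, hfU, hfUm⟩ := hfa.extend (M := W) hrec fun w hw => by
    have hwN : w ∈ normalizerIn (normalizerIn S X) U := ⟨hRN (hWR hw), (hW hw).2⟩
    obtain ⟨w', hw', he⟩ := hcond w hw
    refine ⟨hwN, w', hRN (hWR hw'), fun x hx => ?_⟩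
    rw [show fa (w * x * w⁻¹) = _ from hfae ⟨_, H93.mem_normalizerIn_conj hwN hx⟩, show fa x = _ from hfae ⟨x, hx⟩]
    exact he ⟨x, hx⟩ _
  have hWS := hWR.trans hRN
  have := H96.finite_of_le hWS
  have := H96.finite_of_le hn.1
  have hUWW : U ⊔ W = W := sup_eq_right.2 hUW
  rw [hUWW] at hf
  obtain rfl : W' = W := by
    refine Subgroup.eq_of_le_of_card_ge (fun y hy => ?_) hf.card_eq.le
    obtain ⟨w, hw, rfl⟩ := hf.surj hy
    obtain ⟨ρ, hρ, -, hρv⟩ := id hf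
    have hfR : f w ∈ base S T X := (hρv ⟨w, hw⟩) ▸ H93.StronglyClosed.apply_mem hd.closed hρ ⟨w, hw⟩ (hWR hw)
    obtain ⟨w', hw', he⟩ := hcond w hw
    have hd' : w'⁻¹ * f w ∈ U := by
      refine hU.2 U (H93.isConj_refl N hn.1) (H93.mem_centralizerIn.2
        ⟨Subgroup.mul_mem _ (Subgroup.inv_mem _ (hWR hw')) hfR, fun v hv => ?_⟩)
      obtain ⟨u, rfl⟩ : ∃ u : U, ((a u : U) : Ω) = v :=
        ⟨a.symm ⟨v, hv⟩, congrArg Subtype.val (a.apply_symm_apply _)⟩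
      have hwu : w * (u : Ω) * w⁻¹ ∈ U := H93.mem_normalizerIn_conj (hW hw) u.2
      have h1 := hf.map_conj hw (hUW u.2)
      rw [hfU _ hwu, hfU _ u.2, show fa (w * (u : Ω) * w⁻¹) = _ from hfae ⟨_, hwu⟩,
        show fa (u : Ω) = _ from hfae u, he u hwu] at h1
      calc w'⁻¹ * f w * ((a u : U) : Ω) * (w'⁻¹ * f w)⁻¹
          = w'⁻¹ * (f w * ((a u : U) : Ω) * (f w)⁻¹) * w' := by group
        _ = _ := by rw [← h1]; group
    have := W.mul_mem hw' (hUW hd')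
    rwa [mul_inv_cancel_left] at this
  obtain ⟨c₀, hc₀, hc₀e⟩ := hf.exists_aut
  have : Finite (MulAut W') := Finite.of_injective (fun e : MulAut W' => (e : _ → _)) DFunLike.coe_injective
  have hc₀U : ∀ x : U, c₀ (Subgroup.inclusion hUW x) = Subgroup.inclusion hUW (a x) := fun x =>
    Subtype.ext ((hc₀e _).trans ((hfU x x.2).trans (hfae x)))
  obtain ⟨m, hcp, hcU⟩ := H24.Meet.exists_coprime_pow (p := p) _ hc₀U hap
  refine ⟨c₀ ^ m, ?_, hcp, fun x => congrArg Subtype.val (hcU x)⟩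
  -- extension to `W X`
  obtain ⟨fc, hfc, hfce⟩ := H93.exists_mor_of_aut hWS (pow_mem hc₀ m)
  obtain ⟨g, hg, hgX, hge⟩ := nmor_ext hN hfc
  obtain ⟨γ₀, hγ₀, hγ₀e⟩ := hg.exists_aut
  have := H96.finite_of_le hg.le_left
  have : Finite (MulAut ↥(W' ⊔ X)) :=
    Finite.of_injective (fun e : MulAut ↥(W' ⊔ X) => (e : _ → _)) DFunLike.coe_injective
  have hγ₀X : γ₀ ∈ stabSet X (W' ⊔ X) := fun z => by
    rw [hγ₀e]
    exact hg.mem_iff hgX le_sup_right z.2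
  have hγ₀W : ∀ x : W', γ₀ (Subgroup.inclusion le_sup_left x) = Subgroup.inclusion le_sup_left ((c₀ ^ m) x) :=
    fun x => Subtype.ext ((hγ₀e _).trans ((hge x x.2).trans (hfce x)))
  obtain ⟨n, hγp, hγW⟩ := H24.Meet.exists_coprime_pow (p := p) _ hγ₀W hcp
  obtain ⟨γ, hγdef⟩ : ∃ γ, γ = γ₀ ^ n := ⟨_, rfl⟩
  rw [← hγdef] at hγp hγW
  have hγ : γ ∈ F.autGroup (W' ⊔ X) := hγdef ▸ pow_mem hγ₀ n
  have hγX : γ ∈ stabSet X (W' ⊔ X) := hγdef ▸ pow_mem hγ₀X n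
  suffices hgood : GoodAut p F E (W' ⊔ X) γ from ExtGood.mem_autom ⟨hWR, γ, hgood, hγX, hγW⟩
  -- restriction to `U X`
  have hle : U ⊔ X ≤ W' ⊔ X := sup_le_sup_right hUW X
  obtain ⟨h, hh, hhe⟩ := H93.exists_mor_of_aut hg.le_left hγ
  have hhU : ∀ x : U, h x = ((a x : U) : Ω) := fun x =>
    (hhe (Subgroup.inclusion le_sup_left (Subgroup.inclusion hUW x))).trans
      ((congrArg Subtype.val (hγW _)).trans (congrArg Subtype.val (hcU x)))
  obtain ⟨M, -, hhM⟩ := hh.restrict hle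
  have := H96.finite_of_le hhM.le_left
  obtain rfl : M = U ⊔ X := by
    refine Subgroup.eq_of_le_of_card_ge ?_ hhM.card_eq.le
    obtain ⟨χ, hχ, hχr, hχv⟩ := id hhM
    rw [← hχr]
    rintro _ ⟨z, rfl⟩
    refine H93.apply_mem_sup (fun x => Subgroup.mem_sup_left ?_) (fun x => Subgroup.mem_sup_right ?_) z
    · rw [hχv]
      exact (hhU x) ▸ (a x).2
    · rw [hχv]
      exact (hhe ⟨x, Subgroup.mem_sup_right x.2⟩) ▸ (hγX _).2 x.2
  obtain ⟨β, hβ, hβe⟩ := hhM.exists_aut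
  have hres : ∀ x : ↥(U ⊔ X), ((γ ⟨x, hle x.2⟩ : ↥(W' ⊔ X)) : Ω) = ((β x : ↥(U ⊔ X)) : Ω) := fun x =>
    (hhe ⟨x, hle x.2⟩).symm.trans (hβe x).symm
  have hβp : (orderOf β).Coprime p :=
    coprime_of_intertwine (f := fun x : ↥(U ⊔ X) => (⟨x, hle x.2⟩ : ↥(W' ⊔ X)))
      (fun x y e => Subtype.ext (congrArg (fun z : ↥(W' ⊔ X) => (z : Ω)) e))
      (fun x => Subtype.ext (hres x)) hγp
  -- comparison with the good extension
  obtain ⟨-, α, hα, hαX, hαe⟩ := (autom_spec hS hE hX hN hU ha).1 hap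
  have hαU : ∀ x : ↥(U ⊔ X), (x : Ω) ∈ U ↔ ((α x : ↥(U ⊔ X)) : Ω) ∈ U := by
    intro x
    constructor
    · intro hx
      rw [show α x = _ from hαe ⟨x, hx⟩]
      exact (a _).2
    · intro hx
      have h1 := hαe (a.symm ⟨_, hx⟩)
      rw [a.apply_symm_apply] at h1
      rw [← α.injective (h1.trans (Subtype.ext rfl))]
      exact (a.symm _).2
  obtain ⟨k, hk, hkβ⟩ := exists_conj_fix hS hI.2.1 hX.1 hN hU hα.mem_autGroup hβ hα.coprime hβp hαU fun x hx => by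
    refine Subtype.ext ((congrArg Subtype.val (hαe ⟨x, hx⟩)).trans ?_)
    exact ((hβe x).trans (hhU ⟨x, hx⟩)).symm
  have hWT : W' ⊔ X ≤ U ⊔ X ⊔ T := sup_le (hWR.trans (base_le_sup.trans (sup_le_sup_right le_sup_right T)))
    (le_sup_right.trans le_sup_left)
  exact (goodAut_restrict_iff hS hE _ (zCentric_sup hS hE.1.2.1 hI.2.1 hX hN hU) _ hle hg.le_left hWT γ hγ
    hγp β hres).2 (hkβ ▸ hα.conj_aut hI hk)

theorem hyps (hS : IsPGroup p S) (hE : E.IsNormalIn F p) (hX : F.IsFullyNormalized X)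
    (hN : F.IsNormalizerSystem X N) :
    H24.InvMap.Hyps p N (base S T X) (autom p F E N) :=
  have hfin : Finite ↥(normalizerIn S X) := H96.finite_of_le (S := S) inf_le_left
  H24.InvMap.Hyps.mk' (data hS hE hX hN) (fun _ hU => autom_bot hX.1 hU) (sylowProp hS hE hX hN)
    (restrictProp hS hE hX hN) (liftProp hS hE hX hN)

end Cfsg.Agent.H24.Balance.Core
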