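import Cfsg.Agent.H24.Balance.LGroup
import Cfsg.Agent.H24.InvMap.Defs
import Cfsg.Agent.H94.CongIndex
import Cfsg.Agent.H93.LocalSaturated

/-!
The automizers, in the normalizer system of a fully normalized subgroup `X`, of the subgroups of `N_T(X) X`.
-/

set_option autoImplicit false
set_option linter.unusedSectionVars false

namespace Cfsg.Agent.H24.Balance.Core

open Cfsg Cfsg.FusionSystem
open Cfsg.Agent.H93 (Mor)
open Cfsg.Agent.H94.Meet (TCentric ConjInner exists_conjAut)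

variable {Ω : Type*} [Group Ω] {S T X P P' Q U : Subgroup Ω} {F : FusionSystem S} {E : FusionSystem T} {p : ℕ}
  {N : FusionSystem (normalizerIn S X)}

/-- The automorphisms stabilizing `X`. -/
def stabSet (X Z : Subgroup Ω) : Subgroup (MulAut Z) where
  carrier := {α | ∀ z : Z, ((α z : Z) : Ω) ∈ X ↔ (z : Ω) ∈ X}
  one_mem' _ := Iff.rfl
  mul_mem' {a b} ha hb z := (ha (b z)).trans (hb z)
  inv_mem' {a} ha z := by
    have h := ha (a⁻¹ z)
    rw [MulAut.apply_inv_self] at h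
    exact h.symm

theorem mem_stabSet {Z : Subgroup Ω} {α : MulAut Z} :
    α ∈ stabSet X Z ↔ ∀ z : Z, ((α z : Z) : Ω) ∈ X ↔ (z : Ω) ∈ X := Iff.rfl

/-- The subgroup on which the new system lives. -/
abbrev base (S T X : Subgroup Ω) : Subgroup Ω := (T ⊓ normalizerIn S X) ⊔ X

theorem base_le (hX : X ≤ S) : base S T X ≤ normalizerIn S X := sup_le inf_le_right (H93.le_normalizerIn hX)

theorem base_le_sup : base S T X ≤ X ⊔ T := sup_le (inf_le_left.trans le_sup_right) le_sup_left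

/-- The good automorphisms of `Q X` stabilizing `X`, restricted to `Q`. -/
def ExtGood (p : ℕ) (F : FusionSystem S) (E : FusionSystem T) (X Q : Subgroup Ω) (a : MulAut Q) : Prop :=
  Q ≤ base S T X ∧ ∃ α : MulAut ↥(Q ⊔ X), GoodAut p F E (Q ⊔ X) α ∧ α ∈ stabSet X (Q ⊔ X) ∧
    ∀ x : Q, α (Subgroup.inclusion le_sup_left x) = Subgroup.inclusion le_sup_left (a x)

/-- The automizer. -/
def autom (p : ℕ) (F : FusionSystem S) (E : FusionSystem T) (N : FusionSystem (normalizerIn S X))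
    (Q : Subgroup Ω) : Subgroup (MulAut Q) :=
  Subgroup.closure {a | ExtGood p F E X Q a ∨ ConjInner N (base S T X) Q a}

theorem ExtGood.mem_autom {a : MulAut Q} (h : ExtGood p F E X Q a) : a ∈ autom p F E N Q :=
  Subgroup.subset_closure (Or.inl h)

theorem mem_autom_of_conjInner {a : MulAut Q} (h : ConjInner N (base S T X) Q a) : a ∈ autom p F E N Q :=
  Subgroup.subset_closure (Or.inr h)

theorem le_normalizerIn_of_mor {f : Ω → Ω} (h : Mor N P P' f) : P ≤ normalizerIn S X ∧ P' ≤ normalizerIn S X :=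
  ⟨h.le_left, h.le_right⟩

/-- A map of the normalizer system extends to `X`, stabilizing it. -/
theorem nmor_ext (hN : F.IsNormalizerSystem X N) {f : Ω → Ω} (h : Mor N P P' f) :
    ∃ g : Ω → Ω, Mor F (P ⊔ X) (P' ⊔ X) g ∧ Mor F X X g ∧ ∀ x ∈ P, g x = f x := by
  obtain ⟨φ, hφ, hr, hv⟩ := h
  rw [hN P] at hφ
  obtain ⟨-, -, -, ψ, hψ, hψ1, hψ2⟩ := hφ
  obtain ⟨g, hg, hge⟩ := H93.exists_mor hψ rfl
  have hgP : ∀ x ∈ P, g x = f x := fun x hx =>
    (hge ⟨x, Subgroup.mem_sup_left hx⟩).trans ((hψ1 ⟨x, hx⟩).trans (hv ⟨x, hx⟩))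
  have hXm : ∀ x ∈ X, g x ∈ X := fun x hx => (hge ⟨x, Subgroup.mem_sup_right hx⟩) ▸
    hψ2.le ⟨⟨x, Subgroup.mem_sup_right hx⟩, Subgroup.mem_subgroupOf.2 hx, rfl⟩
  have hR : ψ.range = P' ⊔ X := by
    refine le_antisymm ?_ (sup_le (fun y hy => ?_) fun y hy => ?_)
    · rintro _ ⟨z, rfl⟩
      refine H93.apply_mem_sup (fun x => Subgroup.mem_sup_left ?_) (fun x => Subgroup.mem_sup_right ?_) z
      · rw [hψ1]
        exact hr.le ⟨x, rfl⟩
      · exact hψ2.le ⟨_, Subgroup.mem_subgroupOf.2 x.2, rfl⟩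
    · obtain ⟨x, hx⟩ := hr.ge hy
      exact ⟨Subgroup.inclusion le_sup_left x, (hψ1 x).trans hx⟩
    · obtain ⟨z, -, hz⟩ := hψ2.ge hy
      exact ⟨z, hz⟩
  rw [hR] at hg
  refine ⟨g, hg, hg.restrict_eq le_sup_right hXm fun y hy => ?_, hgP⟩
  obtain ⟨z, hz, hzy⟩ := hψ2.ge hy
  exact ⟨z, hz, (hge z).trans hzy⟩

theorem mor_toF (hN : F.IsNormalizerSystem X N) {f : Ω → Ω} (h : Mor N P P' f) : Mor F P P' f := by
  obtain ⟨φ, hφ, hr, hv⟩ := h
  rw [hN P] at hφ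
  exact ⟨φ, hφ.1, hr, hv⟩

variable [Finite S] [Fact p.Prime]

/-- The maps of `F` stabilizing `X` inside its normalizer lie in the normalizer system. -/
theorem nmor_of_mor (hN : F.IsNormalizerSystem X N) {A B : Subgroup Ω} (hXA : X ≤ A) (hA : A ≤ normalizerIn S X)
    (hB : B ≤ normalizerIn S X) {g : Ω → Ω} (hg : Mor F A B g) (hgX : ∀ x ∈ X, g x ∈ X) : Mor N A B g := by
  obtain ⟨φ, hφ, hr, hv⟩ := hg
  refine ⟨φ, ?_, hr, hv⟩
  rw [hN A]
  exact H94.mem_normalizerHom hA hXA hφ (fun x => hB (hr.le ⟨x, rfl⟩)) fun x hx => (hv x) ▸ hgX _ hx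


/-- `N_T(X) X` is strongly closed in the normalizer system. -/
theorem stronglyClosed_base (hT : F.StronglyClosed T) (hX : X ≤ S) (hN : F.IsNormalizerSystem X N) :
    N.StronglyClosed (base S T X) := by
  refine ⟨base_le hX, fun R hR φ hφ x => ?_⟩
  obtain ⟨f, hf, hfe⟩ := H93.exists_mor hφ rfl
  obtain ⟨g, hg, hgX, hge⟩ := nmor_ext hN hf
  obtain ⟨χ, hχ, -, hχv⟩ := id hg
  have hx : (x : Ω) ∈ base S T X := hR x.2
  rw [← SetLike.mem_coe, Subgroup.coe_mul_of_left_le_normalizer_right (T ⊓ normalizerIn S X) X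
    (inf_le_right.trans inf_le_right)] at hx
  obtain ⟨t, ht, y, hy, hty⟩ := hx
  have hty' : t * y = x := hty
  have htR : t ∈ R ⊔ X := by
    have := Subgroup.mul_mem _ (Subgroup.mem_sup_left (T := X) x.2)
      (Subgroup.inv_mem _ (Subgroup.mem_sup_right (S := R) hy))
    rwa [← hty', mul_inv_cancel_right] at this
  rw [← hfe, ← hge _ x.2, ← hty', hg.map_mul htR (Subgroup.mem_sup_right hy)]
  refine Subgroup.mul_mem _ (Subgroup.mem_sup_left ⟨?_, ?_⟩) (Subgroup.mem_sup_right (hgX.map_mem hy))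
  · rw [← hχv ⟨t, htR⟩]
    exact H93.StronglyClosed.apply_mem hT hχ _ ht.1
  · exact (sup_le hf.le_right (H93.le_normalizerIn hX) : φ.range ⊔ X ≤ _) (hg.map_mem htR)

/-- A map from the normalizer of a conjugate of `X` turns maps carrying `X` there into maps of the system. -/
theorem exists_nmor (hS : IsPGroup p S) (hF : F.IsSaturated p) (hX : F.IsFullyNormalized X)
    (hN : F.IsNormalizerSystem X N) {Z Z' X' : Subgroup Ω} {φ : Ω → Ω} (hXZ : X ≤ Z)
    (hZ : Z ≤ normalizerIn S X) (hφ : Mor F Z Z' φ) (hφX : Mor F X X' φ) :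
    ∃ (π : Ω → Ω) (B : Subgroup Ω), B ≤ normalizerIn S X ∧ Mor F (normalizerIn S X') B π ∧
      Z' ≤ normalizerIn S X' ∧ Mor F X' X π ∧
      ∃ Z'' : Subgroup Ω, Mor N Z Z'' (fun x => π (φ x)) ∧ Mor F Z' Z'' π := by
  obtain ⟨φi, hφi, -, -⟩ := hφX.exists_inv
  obtain ⟨ψ, hψ, hψn, himg⟩ := H93.exists_map_to_fullyNormalized hS hF hX hφi.isConj
  obtain ⟨π, hπ, hπe⟩ := H93.exists_mor hψ rfl
  have hN' : X' ≤ normalizerIn S X' := H93.le_normalizerIn hφX.le_right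
  have hπX : Mor F X' X π := by
    refine hπ.restrict_eq hN' (fun x hx => ?_) fun y hy => ?_
    · rw [← himg]
      exact ⟨⟨x, hN' hx⟩, hx, (hπe ⟨x, hN' hx⟩).symm⟩
    · rw [← himg] at hy
      obtain ⟨x, hx, rfl⟩ := hy
      exact ⟨x, hx, hπe x⟩
  have hB : ψ.range ≤ normalizerIn S X := by
    rintro _ ⟨g, rfl⟩
    exact hψn g
  have hZ' : Z' ≤ normalizerIn S X' := by
    intro y hy
    refine ⟨hφ.le_right hy, ?_⟩
    obtain ⟨x, hx, rfl⟩ := hφ.surj hy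
    exact (hφ.map_mem_normalizerIn hφX hXZ hx (hZ hx).2).2
  obtain ⟨Z'', hZ''B, hπZ⟩ := hπ.restrict hZ'
  exact ⟨π, ψ.range, hB, hπ, hZ', hπX, Z'',
    nmor_of_mor hN hXZ hZ (hZ''B.trans hB) (hπZ.comp hφ) fun x hx => hπX.map_mem (hφX.map_mem hx), hπZ⟩

/-- Centric subgroups of `N_T(X) X` give subgroups containing their centralizers in `T`. -/
theorem zCentric_sup (hS : IsPGroup p S) (hF : F.IsSaturated p) (hT : F.StronglyClosed T)
    (hX : F.IsFullyNormalized X)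
    (hN : F.IsNormalizerSystem X N) (hQ : TCentric N (base S T X) Q) : ZCentric F T (Q ⊔ X) := by
  have hQN : Q ≤ normalizerIn S X := hQ.1.trans (base_le hX.1)
  have hle : Q ⊔ X ≤ normalizerIn S X := sup_le hQN (H93.le_normalizerIn hX.1)
  refine ⟨hle.trans inf_le_left, fun Z' hZ' c hc => ?_⟩
  obtain ⟨ψ, hψ, hψr⟩ := hZ'
  obtain ⟨φ, hφ, -⟩ := H93.exists_mor hψ hψr
  obtain ⟨X', hX'Z, hφX⟩ := hφ.restrict (le_sup_right : X ≤ Q ⊔ X)
  obtain ⟨π, B, hB, hπ, hZ'N, hπX, Z'', hg, hπZ⟩ := exists_nmor hS hF hX hN le_sup_right hle hφ hφX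
  obtain ⟨Q'', hQ''Z, hgQ⟩ := hg.restrict (le_sup_left : Q ≤ Q ⊔ X)
  have hcN : c ∈ normalizerIn S X' := by
    refine H93.centralizerIn_le_normalizerIn S X' (H93.mem_centralizerIn.2
      ⟨?_, fun y hy => (H93.mem_centralizerIn.1 hc).2 y (hX'Z hy)⟩)
    exact hT.1 hc.1
  have hπc : π c ∈ centralizerIn (base S T X) Q'' := by
    obtain ⟨χ, hχ, -, hχv⟩ := id hπ
    refine H93.mem_centralizerIn.2 ⟨Subgroup.mem_sup_left ⟨?_, hB (hπ.map_mem hcN)⟩, fun y hy => ?_⟩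
    · rw [← hχv ⟨c, hcN⟩]
      exact H93.StronglyClosed.apply_mem hT hχ _ hc.1
    · obtain ⟨q, hq, rfl⟩ := hgQ.surj hy
      have hq' := hφ.map_mem (Subgroup.mem_sup_left (T := X) hq)
      rw [← hπ.map_conj hcN (hZ'N hq'), (H93.mem_centralizerIn.1 hc).2 _ hq']
  obtain ⟨z, hz, hzc⟩ := hπZ.surj (hQ''Z (hQ.2 Q'' hgQ.isConj hπc))
  exact hπ.injOn (hZ'N hz) hcN hzc ▸ hz

/-- The elements of the automizer are maps of the normalizer system. -/
theorem conjInner_mem_autGroup {a : MulAut Q} (h : ConjInner N (base S T X) Q a) (hX : X ≤ S) :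
    a ∈ N.autGroup Q := by
  obtain ⟨Q', φ, t, hφ, ht, he⟩ := h
  obtain ⟨φi, hφi, hφi1, -⟩ := hφ.exists_inv
  obtain ⟨b, hb, hbe⟩ := ((hφi.comp (H93.mor_conj N hφ.le_right ⟨base_le hX ht.1, ht.2⟩)).comp hφ).exists_aut
  rwa [show a = b from MulEquiv.ext fun x => Subtype.ext (by
    rw [hbe]
    show _ = φi (t * φ x * t⁻¹)
    rw [← he x, hφi1 _ (a x).2])]

theorem ExtGood.mem_autGroup (hX : X ≤ S) (hN : F.IsNormalizerSystem X N) {a : MulAut Q}
    (h : ExtGood p F E X Q a) : a ∈ N.autGroup Q := by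
  obtain ⟨hQ, α, hα, hαX, he⟩ := h
  have hle : Q ⊔ X ≤ normalizerIn S X := sup_le (hQ.trans (base_le hX)) (H93.le_normalizerIn hX)
  obtain ⟨g, hg, hge⟩ := H93.exists_mor_of_aut (hle.trans inf_le_left) hα.mem_autGroup
  have hgN : Mor N (Q ⊔ X) (Q ⊔ X) g := nmor_of_mor hN le_sup_right hle hle hg fun x hx =>
    (hge ⟨x, Subgroup.mem_sup_right hx⟩) ▸ (hαX _).2 hx
  have hgQ : ∀ x : Q, g x = ((a x : Q) : Ω) := fun x =>
    (hge (Subgroup.inclusion le_sup_left x)).trans (congrArg Subtype.val (he x))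
  have hgQ' : Mor N Q Q g := hgN.restrict_eq le_sup_left (fun x hx => (hgQ ⟨x, hx⟩) ▸ (a _).2) fun y hy => by
    obtain ⟨x, hx⟩ := a.surjective ⟨y, hy⟩
    exact ⟨x, x.2, (hgQ x).trans (congrArg Subtype.val hx)⟩
  obtain ⟨b, hb, hbe⟩ := hgQ'.exists_aut
  rwa [show a = b from MulEquiv.ext fun x => Subtype.ext ((hgQ x).symm.trans (hbe x).symm)]

theorem autom_le (hX : X ≤ S) (hN : F.IsNormalizerSystem X N) : autom p F E N Q ≤ N.autGroup Q :=
  (Subgroup.closure_le _).2 fun _ h => h.elim (fun h => h.mem_autGroup hX hN) fun h => conjInner_mem_autGroup h hX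

theorem autom_bot (hX : X ≤ S) (hQ : ¬ Q ≤ normalizerIn S X) : autom p F E N Q = ⊥ := by
  refine le_bot_iff.1 ((Subgroup.closure_le _).2 fun a h => ?_)
  rcases h with h | ⟨Q', φ, t, hφ, -, -⟩
  · exact absurd (h.1.trans (base_le hX)) hQ
  · exact absurd hφ.le_left hQ

theorem ExtGood.conj (hI : E.IsInvariantIn F) (hX : X ≤ S) (hN : F.IsNormalizerSystem X N) {f : Ω → Ω}
    (hf : Mor N P P' f) {a : MulAut P} {a' : MulAut P'}
    (he : ∀ x : P, f ((a x : P) : Ω) = ((a' ⟨f x, hf.map_mem x.2⟩ : P') : Ω)) (h : ExtGood p F E X P a) :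
    ExtGood p F E X P' a' := by
  obtain ⟨hP, α, hα, hαX, hαe⟩ := h
  have hT := hI.2.1
  have hP' : P' ≤ base S T X := by
    intro y hy
    obtain ⟨x, hx, rfl⟩ := hf.surj hy
    obtain ⟨ψ, hψ, -, hψv⟩ := id hf
    rw [← hψv ⟨x, hx⟩]
    exact H93.StronglyClosed.apply_mem (stronglyClosed_base hT hX hN) hψ ⟨x, hx⟩ (hP hx)
  obtain ⟨g, hg, hgX, hge⟩ := nmor_ext hN hf
  obtain ⟨α', hα'⟩ := exists_conjAut hg α
  refine ⟨hP', α', hα.conj hI hg hα', fun z => ?_, fun y => ?_⟩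
  · obtain ⟨x, hx, hxz⟩ := hg.surj z.2
    obtain ⟨z, hz⟩ := z
    simp only at hxz
    subst hxz
    rw [← hα' ⟨x, hx⟩, hg.mem_iff hgX le_sup_right (α ⟨x, hx⟩).2, hαX ⟨x, hx⟩,
      hg.mem_iff hgX le_sup_right hx]
  · obtain ⟨x, hx, hxy⟩ := hf.surj y.2
    obtain ⟨y, hy⟩ := y
    simp only at hxy
    subst hxy
    refine Subtype.ext ?_
    rw [show (Subgroup.inclusion le_sup_left (⟨f x, hy⟩ : P') : ↥(P' ⊔ X)) =
      ⟨g x, hg.map_mem (Subgroup.mem_sup_left hx)⟩ from Subtype.ext (hge x hx).symm,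
      ← hα' ⟨x, Subgroup.mem_sup_left hx⟩]
    show g _ = ((a' ⟨f x, hy⟩ : P') : Ω)
    rw [show (α ⟨x, Subgroup.mem_sup_left hx⟩ : Ω) = ((a ⟨x, hx⟩ : P) : Ω) from
      congrArg Subtype.val (hαe ⟨x, hx⟩), hge _ (a _).2, he ⟨x, hx⟩]

theorem conjInner_conj {f : Ω → Ω} (hf : Mor N P P' f) {a : MulAut P} {a' : MulAut P'}
    (he : ∀ x : P, f ((a x : P) : Ω) = ((a' ⟨f x, hf.map_mem x.2⟩ : P') : Ω))
    (h : ConjInner N (base S T X) P a) : ConjInner N (base S T X) P' a' := by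
  obtain ⟨Q', φ, t, hφ, ht, hte⟩ := h
  obtain ⟨fi, hfi, hfi1, -⟩ := hf.exists_inv
  refine ⟨Q', _, t, hφ.comp hfi, ht, fun y => ?_⟩
  obtain ⟨x, hx, hxy⟩ := hf.surj y.2
  obtain ⟨y, hy⟩ := y
  simp only at hxy
  subst hxy
  show φ (fi _) = t * φ (fi (f x)) * t⁻¹
  rw [← he ⟨x, hx⟩, hfi1 _ (a _).2, hfi1 x hx]
  exact hte ⟨x, hx⟩

theorem autom_conj (hI : E.IsInvariantIn F) (hX : X ≤ S) (hN : F.IsNormalizerSystem X N) {f : Ω → Ω}
    (hf : Mor N P P' f) {a : MulAut P} {a' : MulAut P'}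
    (he : ∀ x : P, f ((a x : P) : Ω) = ((a' ⟨f x, hf.map_mem x.2⟩ : P') : Ω)) (h : a ∈ autom p F E N P) :
    a' ∈ autom p F E N P' := by
  have hfin : Finite ↥(normalizerIn S X) := H96.finite_of_le (S := S) inf_le_left
  induction h using Subgroup.closure_induction generalizing a' with
  | mem a ha =>
    exact ha.elim (fun h => (h.conj hI hX hN hf he).mem_autom) fun h => mem_autom_of_conjInner (conjInner_conj hf he h)
  | one =>
    rw [conjAut_unique hf (a := 1) he (a'' := 1) fun x => rfl]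
    exact one_mem _
  | mul a b _ _ iha ihb =>
    obtain ⟨a₁, ha₁⟩ := exists_conjAut hf a
    obtain ⟨b₁, hb₁⟩ := exists_conjAut hf b
    rw [conjAut_unique hf (a := a * b) he (a'' := a₁ * b₁) fun x => by
      rw [MulAut.mul_apply, MulAut.mul_apply, ha₁ (b x)]
      exact congrArg (fun z : P' => ((a₁ z : P') : Ω)) (Subtype.ext (hb₁ x))]
    exact mul_mem (iha ha₁) (ihb hb₁)
  | inv a _ iha =>
    obtain ⟨a₁, ha₁⟩ := exists_conjAut hf a
    rw [conjAut_unique hf (a := a⁻¹) he (a'' := a₁⁻¹) fun x => by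
      have h1 := ha₁ (a⁻¹ x)
      rw [show (a (a⁻¹ x)) = x from MulAut.apply_inv_self _ _ _] at h1
      rw [show (⟨f x, hf.map_mem x.2⟩ : P') = a₁ ⟨f ((a⁻¹ x : P) : Ω), hf.map_mem (a⁻¹ x).2⟩ from Subtype.ext h1,
        MulAut.inv_apply_self]]
    exact inv_mem (iha ha₁)

theorem data (hS : IsPGroup p S) (hE : E.IsNormalIn F p) (hX : F.IsFullyNormalized X)
    (hN : F.IsNormalizerSystem X N) :
    H24.InvMap.Data p N (base S T X) (autom p F E N) where
  isPGroup := hS.to_le inf_le_left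
  saturated := H93.IsNormalizerSystem.isSaturated hS hE.1.2.1 hX hN
  closed := stronglyClosed_base hE.1.2.2.2.1 hX.1 hN
  le_autGroup _ _ := autom_le hX.1 hN
  inner U a t hU ht he := mem_autom_of_conjInner
    ⟨U, fun x => x, t, Mor.id N (hU.trans (base_le hX.1)), ht, he⟩
  conj _ _ _ hφ _ _ _ ha he := autom_conj hE.1.2.2 hX.1 hN hφ he ha

/-- The elements of the automizer are restrictions from the generated subgroup. -/
theorem exists_res (hE : E.IsInvariantIn F) (hX : X ≤ S) (hN : F.IsNormalizerSystem X N) {a : MulAut Q}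
    (ha : a ∈ autom p F E N Q) :
    ∃ α ∈ LGroup p F E (Q ⊔ X) ⊓ stabSet X (Q ⊔ X),
      ∀ x : Q, α (Subgroup.inclusion le_sup_left x) = Subgroup.inclusion le_sup_left (a x) := by
  induction ha using Subgroup.closure_induction with
  | mem a ha =>
    rcases ha with ⟨-, α, hα, hαX, he⟩ | ⟨Q', φ, r, hφ, hr, he⟩
    · exact ⟨α, ⟨hα.mem_LGroup, hαX⟩, he⟩
    · obtain ⟨g, hg, hgX, hge⟩ := nmor_ext hN hφ
      obtain ⟨gi, hgi, hgi1, hgi2⟩ := hg.exists_inv
      have hrN : r ∈ normalizerIn S X := base_le hX hr.1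
      have hS' : Q' ⊔ X ≤ S := hg.le_right
      have := H96.finite_of_le hS'
      have hrS : r ∈ normalizerIn S (Q' ⊔ X) := by
        refine ⟨hrN.1, H94.mem_normalizer_of_forall_conj_mem fun y hy => ?_⟩
        have hle : Q' ⊔ X ≤ (Q' ⊔ X).comap (MulAut.conj r).toMonoidHom :=
          sup_le (fun z hz => Subgroup.mem_sup_left (H93.mem_normalizerIn_conj hr hz))
            fun z hz => Subgroup.mem_sup_right (H93.mem_normalizerIn_conj hrN hz)
        exact hle hy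
      obtain ⟨c, hc, hce⟩ := (H93.mor_conj F hS' hrS).exists_aut
      obtain ⟨α, hα⟩ := exists_conjAut hgi c
      have hαg : ∀ x : ↥(Q ⊔ X), g ((α x : ↥(Q ⊔ X)) : Ω) = r * g x * r⁻¹ := by
        intro x
        have h1 := hα ⟨g x, hg.map_mem x.2⟩
        rw [show (⟨gi (⟨g x, hg.map_mem x.2⟩ : ↥(Q' ⊔ X)), hgi.map_mem (hg.map_mem x.2)⟩ : ↥(Q ⊔ X)) = x from
          Subtype.ext (hgi1 x x.2)] at h1
        rw [← h1, hgi2 _ (c _).2, hce]
      refine ⟨α, ⟨ConjT.mem_LGroup (p := p) (E := E) ⟨Q' ⊔ X, g, r, hg, hrS,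
        (base_le_sup.trans (sup_le_sup_right le_sup_right T)) hr.1, hαg⟩, fun z => ?_⟩, fun x => ?_⟩
      · rw [← hg.mem_iff hgX le_sup_right (α z).2, hαg, ← hg.mem_iff hgX le_sup_right z.2]
        exact (Subgroup.mem_normalizer_iff.1 hrN.2 _).symm
      · refine Subtype.ext (hg.injOn (α _).2 (Subgroup.mem_sup_left (a x).2) ?_)
        rw [hαg]
        show r * g (x : Ω) * r⁻¹ = g ((a x : Q) : Ω)
        rw [hge _ x.2, hge _ (a x).2, he x]
  | one => exact ⟨1, one_mem _, fun x => rfl⟩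
  | mul a b _ _ iha ihb =>
    obtain ⟨α, hα, hαe⟩ := iha
    obtain ⟨β, hβ, hβe⟩ := ihb
    exact ⟨α * β, mul_mem hα hβ, fun x => by rw [MulAut.mul_apply, hβe, hαe]; rfl⟩
  | inv a _ iha =>
    obtain ⟨α, hα, hαe⟩ := iha
    refine ⟨α⁻¹, inv_mem hα, fun x => ?_⟩
    apply α.injective
    rw [MulAut.apply_inv_self, hαe, MulAut.apply_inv_self]

/-- The elements of order prime to `p` are good, those of `p`-power order conjugate to inner ones. -/
theorem autom_spec (hS : IsPGroup p S) (hE : E.IsNormalIn F p) (hX : F.IsFullyNormalized X)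
    (hN : F.IsNormalizerSystem X N) (hQ : TCentric N (base S T X) Q) {a : MulAut Q}
    (ha : a ∈ autom p F E N Q) :
    ((orderOf a).Coprime p → ExtGood p F E X Q a) ∧
      ((∃ k, a ^ p ^ k = 1) → ConjInner N (base S T X) Q a) := by
  obtain ⟨hEs, hF, hI⟩ := id hE.1
  have hT := hI.2.1
  have hle : Q ⊔ X ≤ normalizerIn S X :=
    sup_le (hQ.1.trans (base_le hX.1)) (H93.le_normalizerIn hX.1)
  have hleS : Q ⊔ X ≤ S := hle.trans inf_le_left
  have := H96.finite_of_le hleS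
  have : Finite (MulAut ↥(Q ⊔ X)) :=
    Finite.of_injective (fun e : MulAut ↥(Q ⊔ X) => (e : _ → _)) DFunLike.coe_injective
  have hZc := zCentric_sup hS hF hT hX hN hQ
  obtain ⟨α, hα, hαe⟩ := exists_res hI hX.1 hN ha
  refine ⟨fun hap => ?_, fun ⟨k, hk⟩ => ?_⟩
  · obtain ⟨m, hmp, hme⟩ := H24.Meet.exists_coprime_pow (p := p) _ hαe hap
    exact ⟨hQ.1, α ^ m, (LGroup_spec hS hE _ hZc _ (pow_mem hα.1 m)).1 hmp, pow_mem hα.2 m, hme⟩
  · obtain ⟨m, j, hmj, hme⟩ := exists_ppart_pow _ hαe hk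
    have hβX := pow_mem hα.2 m
    obtain ⟨Z', φ, w, hφ, hw, hwT, hwe⟩ := (LGroup_spec hS hE _ hZc _ (pow_mem hα.1 m)).2 ⟨j, hmj⟩
    obtain ⟨X', hX'Z, hφX⟩ := hφ.restrict (le_sup_right : X ≤ Q ⊔ X)
    obtain ⟨π, B, hB, hπ, hZ'N, hπX, Z'', hg, hπZ⟩ := exists_nmor hS hF hX hN le_sup_right hle hφ hφX
    have := H96.finite_of_le hφX.le_right
    have hwX' : w ∈ normalizerIn S X' := by
      refine ⟨hw.1, H94.mem_normalizer_of_forall_conj_mem fun y hy => ?_⟩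
      obtain ⟨x, hx, rfl⟩ := hφX.surj hy
      rw [← hwe ⟨x, Subgroup.mem_sup_right hx⟩]
      exact hφX.map_mem ((hβX _).2 hx)
    obtain ⟨Q'', hQ''Z, hgQ⟩ := hg.restrict (le_sup_left : Q ≤ Q ⊔ X)
    have := H96.finite_of_le (hgQ.le_right.trans inf_le_left)
    have hexp : ∀ x : Q, π (φ ((a x : Q) : Ω)) = π w * π (φ x) * (π w)⁻¹ := fun x => by
      have h1 := hwe (Subgroup.inclusion le_sup_left x)
      rw [hme x] at h1
      rw [show φ ((a x : Q) : Ω) = _ from h1]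
      exact hπ.map_conj hwX' (hZ'N (hφ.map_mem (Subgroup.mem_sup_left x.2)))
    refine ⟨Q'', _, π w, hgQ, ⟨?_, H94.mem_normalizer_of_forall_conj_mem fun y hy => ?_⟩, hexp⟩
    · rw [← SetLike.mem_coe, Subgroup.coe_mul_of_left_le_normalizer_right Z' T
        (hφ.le_right.trans (H93.StronglyClosed.le_normalizer hT))] at hwT
      obtain ⟨z, hz, t, ht, hzt⟩ := hwT
      have hzt' : z * t = w := hzt
      have htN : t ∈ normalizerIn S X' := by
        have := Subgroup.mul_mem _ (Subgroup.inv_mem _ (hZ'N hz)) hwX'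
        rwa [← hzt', inv_mul_cancel_left] at this
      rw [← hzt', hπ.map_mul (hZ'N hz) htN]
      have hQ'' : Q'' ≤ base S T X := by
        intro y hy
        obtain ⟨ψ, hψ, hψr, -⟩ := id hgQ
        obtain ⟨x, hx⟩ := hψr.ge hy
        exact hx ▸ H93.StronglyClosed.apply_mem (stronglyClosed_base hT hX.1 hN) hψ x (hQ.1 x.2)
      refine Subgroup.mul_mem _ ?_ (Subgroup.mem_sup_left ⟨?_, hB (hπ.map_mem htN)⟩)
      · obtain ⟨u, hu, rfl⟩ := hφ.surj hz
        obtain ⟨χ, hχ, -, hχv⟩ := id hg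
        rw [show π (φ u) = _ from (hχv ⟨u, hu⟩).symm]
        exact H93.StronglyClosed.apply_mem (stronglyClosed_base hT hX.1 hN) hχ _
          ((sup_le hQ.1 le_sup_right : Q ⊔ X ≤ base S T X) hu)
      · obtain ⟨χ, hχ, -, hχv⟩ := id hπ
        rw [← hχv ⟨t, htN⟩]
        exact H93.StronglyClosed.apply_mem hT hχ _ ht
    · obtain ⟨x, hx, rfl⟩ := hgQ.surj hy
      rw [← hexp ⟨x, hx⟩]
      exact hgQ.map_mem (a _).2

end Cfsg.Agent.H24.Balance.Core
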